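import Cfsg.Agent.Bender85.Exact.Setup

/-!
The exact prime case of Bender's reduction: the two cases.
-/

set_option autoImplicit false
set_option linter.style.haveILetI false

open Subgroup MulAction

namespace Cfsg.Agent.Bender85.Exact

open Cfsg.Agent.TwoFusionB (fix_unique exists_fix smul_swap orderOf_conj_eq sq_eq_one_of_inv
  inv_eq_of_inv ne_one_of_inv)
open Cfsg.Agent.Bender43 (op op_le op_isPGroup le_normalizer_op le_op)
open Cfsg.Agent.Bender43.Fixed (stab2)
open Cfsg.Agent.BenderCore74 (base mem_stab_base stab2_le invGen invGen_le mem_invGen Fus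
  le_normalizer_invGen fus_closure not_mem_of_fus omegaCenter omegaCenter_le omegaCenter_comm
  conj_mem_omegaCenter normalizer_op_iff exists_mem_omegaCenter conj_op conj_inv_base
  exists_pow_prime exists_prime_mem commute_of_sq commute_of_trivial_inf rankTwo_of_exact)

variable {G : Type*} [Group G] [Finite G] {H : Subgroup G} {b : G ⧸ H} {s : ℕ}
  (hP : Pair H b s) {u : G} (hu : orderOf u = 2) (hub : u • base H = b)
include hP hu hub

omit hu hub in
theorem Pair.pow_eq {x : G} (hx : x ∈ op s (stab2 (base H) b)) : ∃ n : ℕ, x ^ s ^ n = 1 :=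
  ((op_isPGroup s (stab2 (base H) b)) ⟨x, hx⟩).imp fun n hn => by
    simpa using congrArg Subtype.val hn

theorem Pair.exists_inverted {K : Subgroup G}
    (hKW : K ≤ omegaCenter s (op s (stab2 (base H) b)))
    (hn : stab2 (base H) b ≤ normalizer (K : Set G)) (hKu : ∀ k ∈ K, u * k * u⁻¹ ∈ K)
    (hne : K ≠ ⊥) : ∃ f ∈ K, orderOf f = s ∧ u * f * u⁻¹ = f⁻¹ := by
  haveI := Fact.mk hP.prime
  obtain ⟨k, hk, hk'⟩ := hP.moved K (hKW.trans (omegaCenter_le _ _)) hn hne u hu hub
  refine ⟨k⁻¹ * (u * k * u⁻¹), mul_mem (inv_mem hk) (hKu k hk), ?_, ?_⟩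
  · refine orderOf_eq_prime (hKW (mul_mem (inv_mem hk) (hKu k hk))).2.2 fun h => hk' ?_
    rw [inv_mul_eq_one] at h
    exact h.symm
  · calc u * (k⁻¹ * (u * k * u⁻¹)) * u⁻¹ = u * k⁻¹ * u⁻¹ * ((u * u) * k * (u * u)⁻¹) := by group
      _ = u * k⁻¹ * u⁻¹ * k := by rw [sq_eq_one_of_inv hu]; group
      _ = (k⁻¹ * (u * k * u⁻¹))⁻¹ := by group

omit hu hub in
/-- A swapper moves the third point under a nontrivial element with exact fixed points. -/
theorem Pair.smul_third_ne {f : G} (hex : ∀ p : G ⧸ H, f • p = p → p = base H ∨ p = b)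
    {c : G ⧸ H} (hca : c ≠ base H) (hcb : c ≠ b) : f • c ≠ c := fun e =>
  (hex c e).elim hca hcb

theorem Pair.third : ∃ c : G ⧸ H, c ≠ base H ∧ c ≠ b ∧ u • c = c := by
  obtain ⟨c, hc⟩ := exists_fix hP.se hu
  refine ⟨c, fun e => ?_, fun e => ?_, hc⟩
  · rw [e] at hc; exact hP.hab (hc.symm.trans hub)
  · rw [e, smul_swap hu hub] at hc; exact hP.hab hc

/-- Case A: the swapper centralises some element of the exact core. -/
theorem Pair.commute_caseA {e : G} (he : e ∈ op s (stab2 (base H) b)) (he1 : e ≠ 1)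
    (hue : Commute u e) {z z' : G} (hz : orderOf z = 2)
    (hzb : z • base H = base H) (hz' : orderOf z' = 2) (hz'b : z' • base H = base H) :
    Commute z z' := by
  haveI := Fact.mk hP.prime
  set D := stab2 (base H) b with hD
  set P := op s D with hPdef
  set W := omegaCenter s P with hW
  set N := invGen H with hN
  have hPp : IsPGroup s P := op_isPGroup s D
  have hWD : W ≤ D := (omegaCenter_le _ _).trans (op_le _ _)
  have huD : u ∈ normalizer (D : Set G) := hP.u_norm hu hub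
  have hWn : ∀ g ∈ normalizer (D : Set G), ∀ x ∈ W, g * x * g⁻¹ ∈ W := fun g hg x hx =>
    conj_mem_omegaCenter (normalizer_op_iff hg) hx
  have hDnW : D ≤ normalizer (W : Set G) := Coprime.le_normalizer_of_conj_mem fun d hd x hx =>
    hWn d (le_normalizer hd) x hx
  -- the fusion of inverted elements of `W`
  obtain ⟨c, hca, hcb, huc⟩ := hP.third hu hub
  have hec : e • c = c := fix_unique hP.se hu (by rw [smul_smul, hue.eq, mul_smul, huc]) huc
  obtain ⟨v, hv, hvb, hve⟩ := hP.centre e (op_le _ _ he) he1 (hP.pow_eq he)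
    ⟨c, hca, hcb, hec⟩ (base H) (fix_fst (op_le _ _ he))
  obtain ⟨w, hw, hwb, hwe⟩ := hP.centre e (op_le _ _ he) he1 (hP.pow_eq he)
    ⟨c, hca, hcb, hec⟩ b (fix_snd (op_le _ _ he))
  have hfacts : ∀ f ∈ W, orderOf f = s → u * f * u⁻¹ = f⁻¹ →
      ((∀ y : G, orderOf y = 2 → y • base H = base H → Fus H f (y * f)) ∧
        (∀ p : G ⧸ H, f • p = p → p = base H ∨ p = b)) := by
    intro f hf hfr hinv
    obtain ⟨hex, hodd⟩ := hP.inv_exact hu hub (hWD hf)
      (fun h => by rw [h, orderOf_one] at hfr; exact hP.prime.one_lt.ne hfr)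
      (hP.pow_eq hf.1) hinv
    refine ⟨fun y hy hyb => ?_, hex⟩
    obtain ⟨d, hd, rfl⟩ := hP.trans v y hv hvb hy hyb
    have he' : d * e * d⁻¹ ∈ P := conj_op (le_normalizer hd) he
    have hcy := hve.map (MulAut.conj d).toMonoidHom
    have hle : ¬ centralizer ({d * e * d⁻¹} : Set G) ≤ H := by
      intro hle
      have hwH : d * w * d⁻¹ ∈ H := hle (mem_centralizer_singleton_iff.2
        (hwe.map (MulAut.conj d).toMonoidHom).eq)
      have hdH := stab2_le hd
      have : w ∈ H := by simpa [mul_assoc] using mul_mem (mul_mem (inv_mem hdH) hwH) hdH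
      exact hP.hab (fix_unique hP.se hw (mem_stab_base.2 this) hwb)
    exact hP.fus_step (stab2_le (op_le _ _ he')) (fun h => he1 (by simpa using h)) hle
      (rankTwo_of_exact hP.se hP.hab hy (mem_centralizer_singleton_iff.2 hcy.eq) hyb
        (mem_centralizer_singleton_iff.2 (hf.2.1 _ he').symm.eq) hP.prime hP.prime_ne_two hfr
        (fix_fst (hWD hf)) (fix_snd (hWD hf)) hex)
      hy hyb hcy (fix_fst (hWD hf)) (hf.2.1 _ he').symm hodd
  have hnotN : ∀ f ∈ W, orderOf f = s → u * f * u⁻¹ = f⁻¹ → f ∉ N := fun f hf hfr hinv =>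
    not_mem_of_fus (fun h => by rw [h, orderOf_one] at hfr; exact hP.prime.one_lt.ne hfr)
      (hfacts f hf hfr hinv).1
  -- an inverted element
  have hWne : W ≠ ⊥ := fun h => exists_mem_omegaCenter hPp (N := ⊤)
    (fun x _ => mem_normalizer_iff.2 fun y => by simp) (by rw [inf_top_eq]; exact hP.core_ne)
    (by rw [inf_top_eq]; exact h)
  obtain ⟨f, hf, hfr, hfinv⟩ := hP.exists_inverted hu hub (le_refl W) hDnW
    (fun k hk => hWn u huD k hk) hWne
  obtain ⟨hfus, hex⟩ := hfacts f hf hfr hfinv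
  refine commute_of_trivial_inf hP.hab hP.trans (hWD hf) hP.prime hfr hex ?_ hz hzb hz' hz'b
  -- `N` meets `D` trivially
  by_contra hne
  have hDN : D ≤ normalizer ((N ⊓ D : Subgroup G) : Set G) :=
    Coprime.le_normalizer_inf (stab2_le.trans le_normalizer_invGen) le_normalizer
  have hPN : P ⊓ N ≠ ⊥ := by
    intro hbot
    refine hne (eq_bot_iff.2 fun n hn => ?_)
    have hpow : ∀ x ∈ N ⊓ D, x ^ s = 1 := by
      intro x hx
      obtain ⟨hxN, hxD⟩ := mem_inf.1 hx
      obtain ⟨k, -, hk⟩ := fus_closure hfus hxN f ⟨1, one_mem _, by simp⟩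
      have hxc : x * f * x⁻¹ * f⁻¹ = 1 := by
        rw [← mem_bot, ← hbot]
        refine mem_inf.2 ⟨mul_mem (conj_op (le_normalizer hxD) hf.1) (inv_mem hf.1), ?_⟩
        have hfN : f ∈ normalizer (N : Set G) := le_normalizer_invGen (stab2_le (hWD hf))
        have h := (mem_normalizer_iff.1 hfN x⁻¹).1 (inv_mem hxN)
        simpa [mul_assoc] using mul_mem hxN h
      have hxf : Commute x f := mul_inv_eq_iff_eq_mul.1 (mul_inv_eq_one.1 hxc)
      have h : (x * f) ^ s = 1 := by rw [← hk, conj_pow, hf.2.2, mul_one, mul_inv_cancel]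
      rwa [hxf.mul_pow, hf.2.2, mul_one] at h
    rw [← hbot]
    exact ⟨le_op (N := N ⊓ D) inf_le_right hDN
      (fun x => ⟨1, Subtype.ext (by simpa using hpow x x.2)⟩) hn, (mem_inf.1 hn).1⟩
  set W0 := W ⊓ N with hW0
  set M := N.map (MulAut.conj u).toMonoidHom with hM
  have hW0ne : W0 ≠ ⊥ := exists_mem_omegaCenter hPp
    ((op_le _ _).trans (stab2_le.trans le_normalizer_invGen)) hPN
  have hDM : D ≤ normalizer (M : Set G) := by
    have h := (map_mono (f := (MulAut.conj u).toMonoidHom)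
      ((stab2_le (b := b)).trans le_normalizer_invGen)).trans (le_normalizer_map _)
    rwa [← hD, BenderCore74.map_conj_eq_of_mem_normalizer huD] at h
  have hmemM : ∀ x ∈ W0, u * x * u⁻¹ ∈ W ⊓ M := fun x hx =>
    ⟨hWn u huD x hx.1, ⟨x, hx.2, rfl⟩⟩
  have hback : ∀ x ∈ W ⊓ M, u * x * u⁻¹ ∈ W0 := by
    rintro x ⟨hx, y, hy, rfl⟩
    refine ⟨hWn u huD _ hx, ?_⟩
    have e : u * (u * y * u⁻¹) * u⁻¹ = y := by
      rw [inv_eq_of_inv hu, show u * (u * y * u) * u = u * u * y * (u * u) by group,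
        sq_eq_one_of_inv hu, one_mul, mul_one]
    show u * (u * y * u⁻¹) * u⁻¹ ∈ N
    rwa [e]
  have hint : W0 ⊓ (W ⊓ M) = ⊥ := by
    by_contra hne'
    obtain ⟨f0, hf0, hf0r, hf0i⟩ := hP.exists_inverted hu hub
      (K := W0 ⊓ (W ⊓ M)) (inf_le_left.trans inf_le_left)
      (Coprime.le_normalizer_inf
        (Coprime.le_normalizer_inf hDnW (stab2_le.trans le_normalizer_invGen))
        (Coprime.le_normalizer_inf hDnW hDM))
      (fun k hk => ⟨hback k hk.2, hmemM k hk.1⟩) hne'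
    exact hnotN f0 hf0.1.1 hf0r hf0i hf0.1.2
  obtain ⟨n, hn, hn1⟩ := (W0.bot_or_exists_ne_one).resolve_left hW0ne
  have hn' : u * n * u⁻¹ ∈ W ⊓ M := hmemM n hn
  have hf1 : n * (u * n * u⁻¹)⁻¹ ∈ W := mul_mem hn.1 (inv_mem hn'.1)
  have hne1 : n * (u * n * u⁻¹)⁻¹ ≠ 1 := fun h => by
    rw [mul_inv_eq_one] at h
    exact hn1 (mem_bot.1 (hint ▸ (⟨hn, by rw [h]; exact hn'⟩ : n ∈ W0 ⊓ (W ⊓ M))))
  have hr1 : orderOf (n * (u * n * u⁻¹)⁻¹) = s := orderOf_eq_prime hf1.2.2 hne1
  have hinv1 : u * (n * (u * n * u⁻¹)⁻¹) * u⁻¹ = (n * (u * n * u⁻¹)⁻¹)⁻¹ := by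
    calc u * (n * (u * n * u⁻¹)⁻¹) * u⁻¹
        = u * n * u⁻¹ * ((u * u) * n⁻¹ * (u * u)⁻¹) := by group
      _ = _ := by rw [sq_eq_one_of_inv hu]; group
  obtain ⟨hfus1, hex1⟩ := hfacts _ hf1 hr1 hinv1
  obtain ⟨h, hhH, hh⟩ :=
    fus_closure hfus1 (inv_mem hn.2) (n * (u * n * u⁻¹)⁻¹) ⟨1, one_mem _, by simp⟩
  rw [inv_mul_cancel_left] at hh
  have hhb : h • b = b := by
    have hfix : (n * (u * n * u⁻¹)⁻¹) • (h⁻¹ • b) = h⁻¹ • b := by
      have hb : (u * n * u⁻¹)⁻¹ • b = b := fix_snd (inv_mem (hWD hn'.1))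
      rw [← hh, mul_smul, mul_smul] at hb
      exact eq_inv_smul_iff.2 hb
    rcases hex1 _ hfix with h' | h'
    · rw [inv_smul_eq_iff, mem_stab_base.2 hhH] at h'
      exact absurd h'.symm hP.hab
    · exact (inv_smul_eq_iff.1 h').symm
  have hhD : h ∈ D := mem_inf.2
    ⟨mem_stabilizer_iff.2 (mem_stab_base.2 hhH), mem_stabilizer_iff.2 hhb⟩
  have hfM : n * (u * n * u⁻¹)⁻¹ ∈ M := by
    refine (mem_normalizer_iff.1 (hDM hhD) _).2 ?_
    rw [hh]
    exact inv_mem hn'.2
  have hnM : n ∈ M := by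
    have h' := mul_mem hfM hn'.2
    rwa [inv_mul_cancel_right] at h'
  exact hn1 (mem_bot.1 (hint ▸ (⟨hn, hn.1, hnM⟩ : n ∈ W0 ⊓ (W ⊓ M))))

/-- Case B: the swapper inverts the exact core. -/
theorem Pair.commute_caseB
    (hB : ∀ x ∈ op s (stab2 (base H) b), Commute u x → x = 1)
    {z z' : G} (hz : orderOf z = 2) (hzb : z • base H = base H) (hz' : orderOf z' = 2)
    (hz'b : z' • base H = base H) : Commute z z' := by
  haveI := Fact.mk hP.prime
  set D := stab2 (base H) b with hD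
  set S := op s D with hS
  set N := invGen H with hN
  have hSD : S ≤ D := op_le s D
  have huD : u ∈ normalizer (D : Set G) := hP.u_norm hu hub
  obtain ⟨c, hca, hcb, huc⟩ := hP.third hu hub
  -- the swapper inverts `S`
  have huS : u ∈ normalizer (S : Set G) :=
    Bender43.Fixed.mem_normalizer_of_conj hu fun x hx => conj_op huD hx
  set φ : MulAut S := S.normalizerMonoidHom ⟨u, huS⟩ with hφ
  have hφ1 : MonoidHom.FixedPointFree φ := fun x hx =>
    Subtype.ext (hB x x.2 (mul_inv_eq_iff_eq_mul.1 (congrArg Subtype.val hx : u * (x : G) * u⁻¹ = x)))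
  have hφ2 : Function.Involutive φ := fun x => Subtype.ext (by
    show u * (u * (x : G) * u⁻¹) * u⁻¹ = x
    rw [show u * (u * (x : G) * u⁻¹) * u⁻¹ = u * u * x * (u * u)⁻¹ by group,
      sq_eq_one_of_inv hu]
    group)
  have hinv : ∀ x ∈ S, u * x * u⁻¹ = x⁻¹ := fun x hx =>
    congrArg Subtype.val (congrFun (hφ1.coe_eq_inv_of_involutive hφ2) ⟨x, hx⟩)
  have hab : ∀ x ∈ S, ∀ y ∈ S, Commute x y := fun x hx y hy =>
    congrArg Subtype.val (hφ1.commute_all_of_involutive hφ2 ⟨x, hx⟩ ⟨y, hy⟩).eq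
  -- the centraliser of `S`
  set D0 := D ⊓ centralizer (S : Set G) with hD0
  have hD0D : D0 ≤ D := inf_le_left
  have hcomS : ∀ x ∈ D0, ∀ f ∈ S, Commute f x := fun x hx f hf =>
    mem_centralizer_iff.1 (mem_inf.1 hx).2 f hf
  have hSD0 : S ≤ D0 := fun x hx =>
    ⟨hSD hx, mem_centralizer_iff.2 fun f hf => (hab f hf x hx).eq⟩
  have hD0n : ∀ d ∈ D, ∀ x ∈ D0, d * x * d⁻¹ ∈ D0 := by
    intro d hd x hx
    refine mem_inf.2 ⟨mul_mem (mul_mem hd (hD0D hx)) (inv_mem hd), mem_centralizer_iff.2 fun f hf => ?_⟩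
    have h := (hcomS x hx _ (conj_op (le_normalizer (inv_mem hd)) hf)).map
      (MulAut.conj d).toMonoidHom
    have e : d * (d⁻¹ * f * d⁻¹⁻¹) * d⁻¹ = f := by group
    simp only [MulEquiv.coe_toMonoidHom, MulAut.conj_apply, e] at h
    exact h.eq
  have hinD0 : ∀ x ∈ D, u * x * u⁻¹ = x⁻¹ → x ∈ D0 := by
    intro x hx hxi
    refine ⟨hx, mem_centralizer_iff.2 fun f hf => ?_⟩
    refine (commute_of_sq (hP.odd_ord hx) ?_).eq
    have h := hinv _ (conj_op (le_normalizer hx) hf)
    rw [show u * (x * f * x⁻¹) * u⁻¹ = u * x * u⁻¹ * (u * f * u⁻¹) * (u * x * u⁻¹)⁻¹ by group,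
      hxi, hinv f hf, inv_inv, mul_inv_rev, mul_inv_rev, inv_inv] at h
    have h' : (x⁻¹ * f⁻¹ * x)⁻¹ = (x * (f⁻¹ * x⁻¹))⁻¹ := congrArg _ h
    calc f * (x * x) = x * ((x⁻¹ * f⁻¹ * x)⁻¹) * x := by group
      _ = x * ((x * (f⁻¹ * x⁻¹))⁻¹) * x := by rw [h']
      _ = x * x * f := by group
  -- inverted elements correspond to the involutions of the base point
  have hreg : ∀ y : G, orderOf y = 2 → y • base H = base H →
      ∃ x ∈ D0, u * x * u⁻¹ = x⁻¹ ∧ x * z * x⁻¹ = y := by
    let J := {x : G // x ∈ D ∧ u * x * u⁻¹ = x⁻¹}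
    have hmove : ∀ x : J, orderOf (u * (x : G)) = 2 ∧ (u * (x : G)) • base H = b := by
      intro x
      have hxb : (x : G) • base H = base H := fix_fst x.2.1
      refine ⟨BenderCons37.orderOf_eq_two (fun h => ?_) ?_, by rw [mul_smul, hxb, hub]⟩
      · have h1 : (u * (x : G)) • base H = b := by rw [mul_smul, hxb, hub]
        rw [h, one_smul] at h1
        exact hP.hab h1
      · calc u * (x : G) * (u * x) = u * x * u * x := by group
          _ = u * x * u⁻¹ * x :=
            congrArg (fun t => u * (x : G) * t * x) (inv_eq_of_inv hu).symm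
          _ = 1 := by rw [x.2.2, inv_mul_cancel]
    have hk : Nat.card J = Nat.card (TwoFusionB.FixInv H (base H)) := by
      rw [← TwoFusionB.card_moveInv hP.se hP.hab]
      refine Nat.card_eq_of_bijective
        (fun x : J => (⟨u * x, hmove x⟩ : TwoFusionB.MoveInv H _ b))
        ⟨fun x y h => Subtype.ext (mul_left_cancel (congrArg Subtype.val h)), ?_⟩
      rintro ⟨v, hv, hvb⟩
      have hd : u * v ∈ D := by
        refine mem_inf.2 ⟨?_, ?_⟩ <;> rw [mem_stabilizer_iff, mul_smul]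
        · rw [hvb, smul_swap hu hub]
        · rw [smul_swap hv hvb, hub]
      refine ⟨⟨u * v, hd, ?_⟩, Subtype.ext ?_⟩
      · rw [mul_inv_rev, inv_eq_of_inv hu, inv_eq_of_inv hv, ← mul_assoc, sq_eq_one_of_inv hu,
          one_mul]
      · show u * (u * v) = v
        rw [← mul_assoc, sq_eq_one_of_inv hu, one_mul]
    have hinj : Function.Injective (fun x : J =>
        (⟨(x : G) * z * (x : G)⁻¹, conj_inv_base (stab2_le x.2.1) hz hzb⟩ :
          TwoFusionB.FixInv H (base H))) := by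
      intro x x' h
      have h' : (x : G) * z * (x : G)⁻¹ = x' * z * (x' : G)⁻¹ := congrArg Subtype.val h
      have e : ∀ w : J, u * (w : G) * z * (u * w) = u * (w * z * (w : G)⁻¹) * u⁻¹ := fun w => by
        have h1 : u * (w : G) = (w : G)⁻¹ * u⁻¹ :=
          (inv_eq_of_inv (hmove w).1).symm.trans (mul_inv_rev u (w : G))
        calc u * (w : G) * z * (u * w) = u * (w : G) * z * ((w : G)⁻¹ * u⁻¹) := by rw [← h1]
          _ = _ := by group
      refine Subtype.ext (mul_left_cancel (a := u) (TwoFusionB.swap_inj hP.se hP.hab hz hzb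
        (hmove x).1 (hmove x).2 (hmove x').1 (hmove x').2 ?_))
      rw [e x, e x', h']
    intro y hy hyb
    obtain ⟨x, hx⟩ := (hinj.bijective_of_nat_card_le hk.ge).2 ⟨y, hy, hyb⟩
    exact ⟨x, hinD0 x x.2.1 x.2.2, x.2.2, congrArg Subtype.val hx⟩
  -- elements of order `s` of `S`
  obtain ⟨f, hf, hfs⟩ := exists_prime_mem (op_isPGroup s D) hP.core_ne
  have hfne : ∀ f : G, orderOf f = s → f ≠ 1 := fun f h h1 => by
    rw [h1, orderOf_one] at h; exact hP.prime.one_lt.ne h
  have hexf : ∀ f ∈ S, orderOf f = s → (∀ p : G ⧸ H, f • p = p → p = base H ∨ p = b) ∧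
      Odd (Nat.card (centralizer ({f} : Set G))) := fun f hf hfs =>
    hP.inv_exact hu hub (hSD hf) (hfne f hfs) (hP.pow_eq hf) (hinv f hf)
  refine commute_of_trivial_inf hP.hab hP.trans (hSD hf) hP.prime hfs (hexf f hf hfs).1 ?_
    hz hzb hz' hz'b
  -- the centraliser step for an element of prime order centralising `z`
  have hstep : ∀ e ∈ D, ∀ p : ℕ, p.Prime → orderOf e = p → Commute e z →
      ∀ g ∈ D0, g ≠ 1 → Commute g e →
      ¬ centralizer ({e} : Set G) ≤ H ∧ BenderCons37.RankTwo (centralizer ({e} : Set G)) := by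
    intro e heD p hp hep hez g hg hg1 hge
    by_cases hps : p = s
    · rw [hps] at hep
      have he1 : e ≠ 1 := hfne e hep
      obtain ⟨v, hv, hvb, hve⟩ := hP.centre e heD he1
        ⟨1, by rw [pow_one, ← hep]; exact pow_orderOf_eq_one e⟩
        ⟨z • b, fun h => hP.hab (smul_left_cancel z (hzb.trans h.symm)),
          fun h => hP.hab (fix_unique hP.se hz hzb h),
          by rw [smul_smul, hez.eq, mul_smul, fix_snd heD]⟩ b (fix_snd heD)
      refine ⟨fun hle => hP.hab (fix_unique hP.se hv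
        (mem_stab_base.2 (hle (mem_centralizer_singleton_iff.2 hve.eq))) hvb), ?_⟩
      -- `e` centralises an element of order `s` of `S`
      have heS : e ∈ normalizer (S : Set G) := le_normalizer_op s D heD
      have hQ : IsPGroup s (zpowers e ⊔ S : Subgroup G) :=
        (IsPGroup.of_card (n := 1) (by rw [Nat.card_zpowers, hep, pow_one])).to_sup_of_normal_right'
          (op_isPGroup s D) (zpowers_le.2 heS)
      have hne := exists_mem_omegaCenter hQ (N := S)
        (sup_le (zpowers_le.2 heS) le_normalizer) (by rw [inf_eq_right.2 le_sup_right]; exact hP.core_ne)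
      obtain ⟨x, hx, hxs⟩ := exists_prime_mem ((op_isPGroup s D).to_le inf_le_right) hne
      exact rankTwo_of_exact hP.se hP.hab hz (mem_centralizer_singleton_iff.2 hez.symm.eq) hzb
        (mem_centralizer_singleton_iff.2
          (hx.1.2.1 e (mem_sup_left (mem_zpowers e))).symm.eq)
        hP.prime hP.prime_ne_two hxs (fix_fst (hSD hx.2)) (fix_snd (hSD hx.2))
        (hexf x hx.2 hxs).1
    · exact hP.good z e p hz hzb hp hps heD hep hez
        ⟨g, hD0D hg, hg1, fun x hx => hcomS g hg x hx, hge⟩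
  -- the centre of the swapper is moved by `S`
  have hfc : f • c ≠ c := hP.smul_third_ne (hexf f hf hfs).1 hca hcb
  by_cases hQ : ∃ d ∈ D0, d ≠ 1 ∧ Commute d z
  · -- every element of order `s` of `S` is fused to its translates
    obtain ⟨d, hd, hd1, hdz⟩ := hQ
    obtain ⟨p, hp, i, hi⟩ := exists_pow_prime hd1
    have hfus : ∀ f ∈ S, orderOf f = s →
        ∀ y : G, orderOf y = 2 → y • base H = base H → Fus H f (y * f) := by
      intro f hf hfs y hy hyb
      have hfd : Commute f (d ^ i) := (hcomS d hd f hf).pow_right i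
      have hd' : d ^ i ∈ D := pow_mem (hD0D hd) i
      obtain ⟨hle, h2⟩ := hstep _ hd' p hp hi (hdz.pow_left i) f (hSD0 hf) (hfne f hfs) hfd
      obtain ⟨k, hk, hk'⟩ := hP.fus_step (stab2_le hd')
        (fun h => by rw [h, orderOf_one] at hi; exact hp.one_lt.ne hi) hle h2 hz hzb
        (hdz.pow_left i).symm (fix_fst (hSD hf)) hfd (hexf f hf hfs).2
      obtain ⟨x, hx, -, rfl⟩ := hreg y hy hyb
      refine ⟨x * k, mul_mem (stab2_le (hD0D hx)) hk, ?_⟩
      calc x * k * f * (x * k)⁻¹ = x * (k * f * k⁻¹) * x⁻¹ := by group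
        _ = x * z * (f * x⁻¹) := by rw [hk']; group
        _ = x * z * x⁻¹ * f := by rw [((hcomS x hx f hf).inv_right).eq, ← mul_assoc]
    have hSN : S ⊓ N = ⊥ := by
      by_contra hne
      obtain ⟨x, hx, hxs⟩ := exists_prime_mem ((op_isPGroup s D).to_le inf_le_left) hne
      exact not_mem_of_fus (hfne x hxs) (hfus x hx.1 hxs) hx.2
    by_contra hne
    have hDN : D ≤ normalizer ((N ⊓ D : Subgroup G) : Set G) :=
      Coprime.le_normalizer_inf (stab2_le.trans le_normalizer_invGen) le_normalizer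
    refine hne (eq_bot_iff.2 fun n hn => ?_)
    have hpow : ∀ x ∈ N ⊓ D, x ^ s = 1 := by
      intro x hx
      obtain ⟨hxN, hxD⟩ := mem_inf.1 hx
      obtain ⟨k, -, hk⟩ := fus_closure (hfus f hf hfs) hxN f ⟨1, one_mem _, by simp⟩
      have hxc : x * f * x⁻¹ * f⁻¹ = 1 := by
        rw [← mem_bot, ← hSN]
        refine mem_inf.2 ⟨mul_mem (conj_op (le_normalizer hxD) hf) (inv_mem hf), ?_⟩
        have hfN : f ∈ normalizer (N : Set G) := le_normalizer_invGen (stab2_le (hSD hf))
        have h := (mem_normalizer_iff.1 hfN x⁻¹).1 (inv_mem hxN)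
        simpa [mul_assoc] using mul_mem hxN h
      have hxf : Commute x f := mul_inv_eq_iff_eq_mul.1 (mul_inv_eq_one.1 hxc)
      have hfp : f ^ s = 1 := by rw [← hfs]; exact pow_orderOf_eq_one f
      have h : (x * f) ^ s = 1 := by rw [← hk, conj_pow, hfp, mul_one, mul_inv_cancel]
      rwa [hxf.mul_pow, hfp, mul_one] at h
    rw [← hSN]
    exact ⟨le_op (N := N ⊓ D) inf_le_right hDN
      (fun x => ⟨1, Subtype.ext (by simpa using hpow x x.2)⟩) hn, (mem_inf.1 hn).1⟩
  · -- `D0` is regular, abelian and inverted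
    push Not at hQ
    have hfree : ∀ x ∈ D0, x * z * x⁻¹ = z → x = 1 := fun x hx h => by
      by_contra h1
      exact hQ x hx h1 (mul_inv_eq_iff_eq_mul.1 h)
    have hinv0 : ∀ x ∈ D0, u * x * u⁻¹ = x⁻¹ := by
      intro x hx
      obtain ⟨y, hy, hyi, hyx⟩ := hreg _ (conj_inv_base (stab2_le (hD0D hx)) hz hzb).1
        (conj_inv_base (stab2_le (hD0D hx)) hz hzb).2
      have h := hfree _ (mul_mem (inv_mem hy) hx) (by
        calc y⁻¹ * x * z * (y⁻¹ * x)⁻¹ = y⁻¹ * (x * z * x⁻¹) * y := by group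
          _ = z := by rw [← hyx]; group)
      rw [inv_mul_eq_one] at h
      rwa [← h]
    have hab0 : ∀ x ∈ D0, ∀ y ∈ D0, Commute x y := by
      intro x hx y hy
      have h := hinv0 _ (mul_mem hx hy)
      rw [show u * (x * y) * u⁻¹ = u * x * u⁻¹ * (u * y * u⁻¹) by group, hinv0 x hx, hinv0 y hy,
        mul_inv_rev] at h
      have h' := congrArg (fun w => w⁻¹) h
      simp only [mul_inv_rev, inv_inv] at h'
      exact h'.symm
    obtain ⟨g, hgF, hg1, hgfus⟩ : ∃ g ∈ D0, g ≠ 1 ∧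
        ∀ y : G, orderOf y = 2 → y • base H = base H → Fus H g (y * g) := by
      obtain ⟨z1, z2, h1, h1b, h2, h2b, hne, hcm⟩ := hP.four
      obtain ⟨x, hx, -, rfl⟩ := hreg z1 h1 h1b
      obtain ⟨y, hy, -, rfl⟩ := hreg z2 h2 h2b
      set g := x⁻¹ * y with hg
      have hgF : g ∈ D0 := mul_mem (inv_mem hx) hy
      have hzc : Commute z (g * z * g⁻¹) := by
        have h := hcm.map (MulAut.conj x⁻¹).toMonoidHom
        simpa [hg, mul_assoc] using h
      have hw : orderOf (z * (g * z * g⁻¹)) = 2 := by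
        refine BenderCons37.orderOf_eq_two (fun h => hne ?_) ?_
        · have h' : g * z * g⁻¹ = z := by
            rw [← inv_eq_of_mul_eq_one_right h, inv_eq_of_inv hz]
          have := hfree g hgF h'
          rw [hg, inv_mul_eq_one] at this
          rw [this]
        · rw [hzc.symm.mul_mul_mul_comm, sq_eq_one_of_inv hz, one_mul,
            show g * z * g⁻¹ * (g * z * g⁻¹) = g * (z * z) * g⁻¹ by group, sq_eq_one_of_inv hz]
          group
      have hwb : (z * (g * z * g⁻¹)) • base H = base H := mem_stab_base.2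
        (mul_mem (mem_stab_base.1 hzb) (mem_stab_base.1
          (conj_inv_base (stab2_le (hD0D hgF)) hz hzb).2))
      refine ⟨g, hgF, fun h => hne ?_, fun v hv hvb => ?_⟩
      · rw [hg, inv_mul_eq_one] at h
        rw [h]
      obtain ⟨k, hk, -, hkv⟩ := hreg v hv hvb
      obtain ⟨l, hl, -, hlw⟩ := hreg _ hw hwb
      refine ⟨k * l⁻¹ * z, mul_mem (mul_mem (stab2_le (hD0D hk))
        (inv_mem (stab2_le (hD0D hl)))) (mem_stab_base.1 hzb), ?_⟩
      have e : z * g * z⁻¹ = l * z * l⁻¹ * g := by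
        rw [hlw, inv_eq_of_inv hz]; group
      calc k * l⁻¹ * z * g * (k * l⁻¹ * z)⁻¹ = k * l⁻¹ * (z * g * z⁻¹) * l * k⁻¹ := by group
        _ = k * z * (l⁻¹ * (g * l)) * k⁻¹ := by rw [e]; group
        _ = k * z * g * k⁻¹ := by rw [(hab0 g hgF l hl).eq, inv_mul_cancel_left]
        _ = k * z * k⁻¹ * g := by
          rw [mul_assoc (k * z) g k⁻¹, (hab0 g hgF k⁻¹ (inv_mem hk)).eq, ← mul_assoc]
        _ = v * g := by rw [hkv]
    by_contra hne
    set A := D0 ⊓ N with hA
    have hAne : A ≠ ⊥ := by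
      intro hbot
      refine hne (eq_bot_iff.2 fun n hn => ?_)
      obtain ⟨hnN, hnD⟩ := mem_inf.1 hn
      have hn0 : n ∈ D0 := ⟨hnD, mem_centralizer_iff.2 fun x hx => by
        have h1 : n * x * n⁻¹ * x⁻¹ ∈ A := by
          refine mem_inf.2 ⟨mul_mem (hD0n n hnD x (hSD0 hx)) (inv_mem (hSD0 hx)), ?_⟩
          have hxN : x ∈ normalizer (N : Set G) := le_normalizer_invGen (stab2_le (hSD hx))
          have h := (mem_normalizer_iff.1 hxN n⁻¹).1 (inv_mem hnN)
          simpa [mul_assoc] using mul_mem hnN h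
        rw [hbot, mem_bot, mul_inv_eq_one, mul_inv_eq_iff_eq_mul] at h1
        exact h1.symm⟩
      rw [← hbot]
      exact ⟨hn0, hnN⟩
    have hcent : ∀ x ∈ A, x ≠ 1 → ∀ d ∈ D, Commute d x → d ∈ D0 := by
      intro x hx hx1 d hd hdx
      by_contra hdF
      obtain ⟨h, hh, -, hhd⟩ := hreg (d * z * d⁻¹) (conj_inv_base (stab2_le hd) hz hzb).1
        (conj_inv_base (stab2_le hd) hz hzb).2
      set e := h⁻¹ * d with he
      have heD : e ∈ D := mul_mem (inv_mem (hD0D hh)) hd
      have hez : Commute e z := by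
        show e * z = z * e
        calc e * z = h⁻¹ * (d * z * d⁻¹) * d := by rw [he]; group
          _ = z * e := by rw [← hhd, he]; group
      have hex' : Commute e x := ((hab0 h hh x hx.1).inv_left).mul_left hdx
      have he1 : e ≠ 1 := fun h1 => hdF (by rw [he, inv_mul_eq_one] at h1; rwa [← h1])
      obtain ⟨p, hp, i, hi⟩ := exists_pow_prime he1
      obtain ⟨t, ht, k, hk'⟩ := exists_pow_prime hx1
      have hf1 : x ^ k ∈ D0 := pow_mem hx.1 k
      have hf1ne : x ^ k ≠ 1 := fun h => by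
        rw [h, orderOf_one] at hk'; exact ht.one_lt.ne hk'
      have hfe : Commute (x ^ k) (e ^ i) := (hex'.symm.pow_left k).pow_right i
      obtain ⟨hle, h2⟩ := hstep _ (pow_mem heD i) p hp hi (hez.pow_left i) _ hf1 hf1ne hfe
      have hodd := hP.odd_centralizer hu hub (hD0D hf1) hf1ne (hinv0 _ hf1) huc
        (hcomS _ hf1 f hf) hfc
      obtain ⟨l, hl, hl'⟩ := hP.fus_step (stab2_le (pow_mem heD i))
        (fun h => by rw [h, orderOf_one] at hi; exact hp.one_lt.ne hi) hle h2 hz hzb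
        (hez.pow_left i).symm (fix_fst (hD0D hf1)) hfe hodd
      refine not_mem_of_fus hf1ne (fun y hy hyb => ?_) (pow_mem hx.2 k)
      obtain ⟨m, hm, -, rfl⟩ := hreg y hy hyb
      refine ⟨m * l, mul_mem (stab2_le (hD0D hm)) hl, ?_⟩
      calc m * l * x ^ k * (m * l)⁻¹ = m * (l * x ^ k * l⁻¹) * m⁻¹ := by group
        _ = m * z * (x ^ k * m⁻¹) := by rw [hl']; group
        _ = m * z * m⁻¹ * x ^ k := by
          rw [(hab0 _ hf1 m⁻¹ (inv_mem hm)).eq, ← mul_assoc]
    obtain ⟨a0, ha0, ha01⟩ := (A.bot_or_exists_ne_one).resolve_left hAne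
    have hch : ∀ n : A, ∃ d ∈ D, d * g * d⁻¹ = (n : G) * g := by
      intro n
      obtain ⟨h, hh, he⟩ := fus_closure hgfus n.2.2 g ⟨1, one_mem _, by simp⟩
      exact hP.fusion_control (hD0D hgF) (hD0D (mul_mem n.2.1 hgF))
        (fun x hx => hcomS g hgF x hx) (fun x hx => hcomS _ (mul_mem n.2.1 hgF) x hx) hh he
    choose d hdD hd using hch
    have hAn : ∀ n : A, d n * a0 * (d n)⁻¹ ∈ A := fun n =>
      mem_inf.2 ⟨hD0n _ (hdD n) a0 ha0.1,
        (mem_normalizer_iff.1 (le_normalizer_invGen (stab2_le (hdD n))) a0).1 ha0.2⟩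
    have hinj : Function.Injective (fun n : A => (⟨_, hAn n⟩ : A)) := by
      intro m n h
      have h' : d m * a0 * (d m)⁻¹ = d n * a0 * (d n)⁻¹ := congrArg Subtype.val h
      have hcm : Commute ((d n)⁻¹ * d m) a0 := by
        show (d n)⁻¹ * d m * a0 = a0 * ((d n)⁻¹ * d m)
        calc (d n)⁻¹ * d m * a0 = (d n)⁻¹ * (d m * a0 * (d m)⁻¹) * d m := by group
          _ = _ := by rw [h']; group
      have hF' := hcent a0 ha0 ha01 _ (mul_mem (inv_mem (hdD n)) (hdD m)) hcm
      have e1 : d m * g * (d m)⁻¹ = d n * g * (d n)⁻¹ := by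
        calc d m * g * (d m)⁻¹
            = d n * ((d n)⁻¹ * d m * g * ((d n)⁻¹ * d m)⁻¹) * (d n)⁻¹ := by group
          _ = d n * g * (d n)⁻¹ := by rw [(hab0 _ hF' g hgF).eq, mul_inv_cancel_right]
      rw [hd, hd] at e1
      exact Subtype.ext (mul_right_cancel e1)
    obtain ⟨n, hn⟩ := Finite.injective_iff_surjective.1 hinj 1
    have hn' : d n * a0 * (d n)⁻¹ = 1 := congrArg Subtype.val hn
    exact ha01 (by simpa using hn')

omit hu hub in
/-- The exact prime case: the involutions of the base point commute. -/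
theorem Pair.commute {z z' : G} (hz : orderOf z = 2) (hzH : z ∈ H) (hz' : orderOf z' = 2)
    (hz'H : z' ∈ H) : Commute z z' := by
  obtain ⟨u, hu, hub⟩ := TwoFusionB.exists_moveInv hP.se hP.hab
  by_cases h : ∀ x ∈ op s (stab2 (base H) b), Commute u x → x = 1
  · exact hP.commute_caseB hu hub h hz (mem_stab_base.2 hzH) hz' (mem_stab_base.2 hz'H)
  · push Not at h
    obtain ⟨e, he, hue, he1⟩ := h
    exact hP.commute_caseA hu hub he he1 hue hz (mem_stab_base.2 hzH) hz' (mem_stab_base.2 hz'H)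

end Cfsg.Agent.Bender85.Exact
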