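import Cfsg.Agent.Bender85.Defs
import Cfsg.Agent.BenderCore74.CaseA
import Cfsg.Agent.BenderCore74.CaseB

/-!
The exact prime case of Bender's reduction (see `NONCORE.md`): the setting, elements inverted by a
swapper, fusion control in the centraliser of the exact core and the centraliser step.
-/

set_option autoImplicit false
set_option linter.style.haveILetI false

open Subgroup MulAction

namespace Cfsg.Agent.Bender85.Exact

open Cfsg.Agent.TwoFusionB (fix_unique exists_fix smul_swap orderOf_conj_eq sq_eq_one_of_inv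
  inv_eq_of_inv ne_one_of_inv)
open Cfsg.Agent.Bender43 (op op_le op_isPGroup le_normalizer_op le_op)
open Cfsg.Agent.Bender43.Fixed (stab2)
open Cfsg.Agent.BenderCore74 (base mem_stab_base stab2_le invGen Fus)

variable {G : Type*} [Group G]

/-- The pair `(base H, b)` with a prime `s` whose core in the pair stabiliser fixes only the pair. -/
structure Pair (H : Subgroup G) (b : G ⧸ H) (s : ℕ) : Prop where
  se : Cfsg.IsStronglyEmbedded H
  hab : base H ≠ b
  four : ∃ z z' : G, orderOf z = 2 ∧ z • base H = base H ∧ orderOf z' = 2 ∧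
    z' • base H = base H ∧ z ≠ z' ∧ Commute z z'
  trans : ∀ z z' : G, orderOf z = 2 → z • base H = base H → orderOf z' = 2 →
    z' • base H = base H → ∃ d ∈ stab2 (base H) b, d * z * d⁻¹ = z'
  faithful : ∀ e : G, e ≠ 1 → e ∈ H → centralizer ({e} : Set G) ≠ ⊤
  prime : s.Prime
  core_ne : op s (stab2 (base H) b) ≠ ⊥
  core_fix : ∀ p : G ⧸ H, (∀ x ∈ op s (stab2 (base H) b), x • p = p) → p = base H ∨ p = b
  centre : ∀ x ∈ stab2 (base H) b, x ≠ 1 → (∃ n : ℕ, x ^ s ^ n = 1) →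
    (∃ p : G ⧸ H, p ≠ base H ∧ p ≠ b ∧ x • p = p) →
    ∀ p : G ⧸ H, x • p = p → ∃ v : G, orderOf v = 2 ∧ v • p = p ∧ Commute v x
  moved : ∀ K : Subgroup G, K ≤ op s (stab2 (base H) b) →
    stab2 (base H) b ≤ normalizer (K : Set G) → K ≠ ⊥ →
    ∀ v : G, orderOf v = 2 → v • base H = b → ∃ k ∈ K, v * k * v⁻¹ ≠ k
  comm_in : ∀ L : Subgroup G, L ≠ ⊤ → ¬ L ≤ H → BenderCons37.RankTwo L → ∀ v v' : G,
    v ∈ L → v' ∈ L → orderOf v = 2 → orderOf v' = 2 → v • base H = base H →
    v' • base H = base H → Commute v v'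
  good : ∀ z e : G, ∀ p : ℕ, orderOf z = 2 → z • base H = base H → p.Prime → p ≠ s →
    e ∈ stab2 (base H) b → orderOf e = p → Commute e z →
    (∃ f ∈ stab2 (base H) b, f ≠ 1 ∧ (∀ x ∈ op s (stab2 (base H) b), Commute x f) ∧ Commute f e) →
    ¬ centralizer ({e} : Set G) ≤ H ∧ BenderCons37.RankTwo (centralizer ({e} : Set G))

variable [Finite G] {H : Subgroup G} {b : G ⧸ H} {s : ℕ} (hP : Pair H b s)
include hP

theorem Pair.odd_D : Odd (Nat.card (stab2 (base H) b)) :=
  Bender43.Fixed.odd_stab2 hP.se hP.hab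

theorem Pair.odd_ord {x : G} (hx : x ∈ stab2 (base H) b) : Odd (orderOf x) :=
  RankOne.odd_orderOf_of_mem hP.odd_D hx

omit [Finite G] hP in
theorem fix_fst {x : G} (hx : x ∈ stab2 (base H) b) : x • base H = base H :=
  mem_stabilizer_iff.1 (mem_inf.1 hx).1

omit [Finite G] hP in
theorem fix_snd {x : G} (hx : x ∈ stab2 (base H) b) : x • b = b :=
  mem_stabilizer_iff.1 (mem_inf.1 hx).2

theorem Pair.prime_ne_two : s ≠ 2 := by
  rintro rfl
  haveI : Fact (Nat.Prime 2) := ⟨Nat.prime_two⟩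
  obtain ⟨x, hx, hxo⟩ := BenderCore74.exists_prime_mem (op_isPGroup 2 _) hP.core_ne
  have h := hP.odd_ord (op_le _ _ hx)
  rw [hxo] at h
  exact absurd h (by decide)

variable {u : G} (hu : orderOf u = 2) (hub : u • base H = b)
include hu hub

theorem Pair.u_norm : u ∈ normalizer (stab2 (base H) b : Set G) :=
  Bender43.Fixed.norm_stab2 hu hub

theorem Pair.no_swap {g : G} (hg : g ∈ stab2 (base H) b) (hinv : u * g * u⁻¹ = g⁻¹)
    {v : G} (hv : orderOf v = 2) (hvb : v • base H = b) (hcm : Commute v g) : g = 1 := by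
  have hd : u * v ∈ stab2 (base H) b := by
    refine mem_inf.2 ⟨?_, ?_⟩ <;> rw [mem_stabilizer_iff, mul_smul]
    · rw [hvb, smul_swap hu hub]
    · rw [smul_swap hv hvb, hub]
  refine RankOne.eq_one_of_conj_eq_inv (hP.odd_ord hd) (hP.odd_ord hg) ?_
  calc u * v * g * (u * v)⁻¹ = u * (v * g * v⁻¹) * u⁻¹ := by group
    _ = g⁻¹ := by rw [hcm.eq, mul_inv_cancel_right, hinv]

omit hu hub in
/-- The involution exchanging two centres in a centraliser lies in it. -/
theorem Pair.exists_swap_commute {x vp vq : G} {p q : G ⧸ H} (hpq : p ≠ q) (hvp : orderOf vp = 2)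
    (hvpf : vp • p = p) (hvpc : Commute vp x) (hvq : orderOf vq = 2) (hvqf : vq • q = q)
    (hvqc : Commute vq x) (hxp : x • p = p) (hxq : x • q = q) :
    ∃ w : G, orderOf w = 2 ∧ w • p = q ∧ Commute w x := by
  obtain ⟨w, hw, hwa, hwab⟩ := TwoFusionB.exists_swap_conj hP.se hvp hvq hvpf hvqf hpq
  refine ⟨w, hw, hwa, (mul_inv_eq_iff_eq_mul.1 ?_).symm⟩
  refine TwoFusionB.swap_inj hP.se hpq hvp hvpf (by rw [orderOf_conj_eq, hw]) ?_ hw hwa ?_
  · rw [mul_smul, mul_smul, inv_smul_eq_iff.2 hxp.symm, hwa, hxq]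
  · have hx : ∀ y : G, Commute y x → x * y * x⁻¹ = y := fun y hy => by
      rw [← hy.eq, mul_inv_cancel_right]
    calc x * w * x⁻¹ * vp * (x * w * x⁻¹)
        = x * w * x⁻¹ * (x * vp * x⁻¹) * (x * w * x⁻¹) := by rw [hx vp hvpc]
      _ = x * (w * vp * w) * x⁻¹ := by group
      _ = vq := by rw [hwab, hx vq hvqc]
      _ = w * vp * w := hwab.symm

/-- Inverted elements of prime power order for `s` fix only the pair and have odd centralisers. -/
theorem Pair.inv_exact {g : G} (hg : g ∈ stab2 (base H) b) (hg1 : g ≠ 1)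
    (hgr : ∃ n : ℕ, g ^ s ^ n = 1) (hinv : u * g * u⁻¹ = g⁻¹) :
    (∀ p : G ⧸ H, g • p = p → p = base H ∨ p = b) ∧
      Odd (Nat.card (centralizer ({g} : Set G))) := by
  have hexact : ∀ p : G ⧸ H, g • p = p → p = base H ∨ p = b := by
    by_contra hcon
    push Not at hcon
    obtain ⟨p, hp, hpa, hpb⟩ := hcon
    obtain ⟨va, hva, hvaf, hvac⟩ :=
      hP.centre g hg hg1 hgr ⟨p, hpa, hpb, hp⟩ (base H) (fix_fst hg)
    obtain ⟨vb, hvb, hvbf, hvbc⟩ := hP.centre g hg hg1 hgr ⟨p, hpa, hpb, hp⟩ b (fix_snd hg)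
    obtain ⟨w, hw, hwa, hwg⟩ := hP.exists_swap_commute hP.hab hva hvaf hvac hvb hvbf hvbc
      (fix_fst hg) (fix_snd hg)
    exact hg1 (hP.no_swap hu hub hg hinv hw hwa hwg)
  refine ⟨hexact, Bender43.Fixed.odd_of_no_inv fun v hv hv2 => ?_⟩
  have hcm : Commute v g := mem_centralizer_singleton_iff.1 hv
  have hmv : ∀ p : G ⧸ H, g • p = p → g • (v • p) = v • p := fun p hp => by
    rw [smul_smul, ← hcm.eq, mul_smul, hp]
  rcases hexact _ (hmv _ (fix_fst hg)) with h | h
  · rcases hexact _ (hmv _ (fix_snd hg)) with h' | h'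
    · exact hP.hab (smul_left_cancel v (h.trans h'.symm))
    · exact hP.hab (fix_unique hP.se hv2 h h')
  · exact hg1 (hP.no_swap hu hub hg hinv hv2 h hcm)

/-- An inverted element whose centraliser moves the centre of the swapper has odd centraliser. -/
theorem Pair.odd_centralizer {x : G} (hx : x ∈ stab2 (base H) b) (hx1 : x ≠ 1)
    (hinv : u * x * u⁻¹ = x⁻¹) {c : G ⧸ H} (hc : u • c = c) {f : G} (hfx : Commute f x)
    (hfc : f • c ≠ c) : Odd (Nat.card (centralizer ({x} : Set G))) := by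
  refine Bender43.Fixed.odd_of_no_inv fun v hv hv2 => ?_
  have hcm : Commute v x := mem_centralizer_singleton_iff.1 hv
  have hcentre : ∀ v' : G, orderOf v' = 2 → Commute v' x → ∀ q : G ⧸ H, v' • q = q → q = c := by
    intro v' hv' hv'x q hq
    refine fix_unique hP.se hu ?_ hc
    by_contra hne
    have hxu : Commute (u * v' * u⁻¹) x := by
      have h := (hv'x.inv_right).map (MulAut.conj u).toMonoidHom
      simp only [MulEquiv.coe_toMonoidHom, MulAut.conj_apply] at h
      rwa [show u * x⁻¹ * u⁻¹ = x by rw [← hinv]; rw [inv_eq_of_inv hu]; rw [show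
        u * (u * x * u) * u = u * u * x * (u * u) by group, sq_eq_one_of_inv hu, one_mul, mul_one]]
        at h
    have hxq : ∀ (v : G) (q : G ⧸ H), orderOf v = 2 → Commute v x → v • q = q → x • q = q :=
      fun v q h2 hc' hq' => fix_unique hP.se h2 (by rw [smul_smul, hc'.eq, mul_smul, hq']) hq'
    have hu' : orderOf (u * v' * u⁻¹) = 2 := by rw [orderOf_conj_eq, hv']
    have huq : (u * v' * u⁻¹) • (u • q) = u • q := by
      rw [mul_smul, mul_smul, inv_smul_smul, hq]
    obtain ⟨w, hw, hwq, hwx⟩ := hP.exists_swap_commute (Ne.symm hne) hv' hq hv'x hu' huq hxu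
      (hxq _ _ hv' hv'x hq) (hxq _ _ hu' hxu huq)
    have hd : u * w ∈ stab2 q (u • q) := by
      refine mem_inf.2 ⟨?_, ?_⟩ <;> rw [mem_stabilizer_iff, mul_smul]
      · rw [hwq, smul_swap hu rfl]
      · rw [smul_swap hw hwq]
    refine hx1 (RankOne.eq_one_of_conj_eq_inv (RankOne.odd_orderOf_of_mem
      (Bender43.Fixed.odd_stab2 hP.se (Ne.symm hne)) hd) (hP.odd_ord hx) ?_)
    calc u * w * x * (u * w)⁻¹ = u * (w * x * w⁻¹) * u⁻¹ := by group
      _ = x⁻¹ := by rw [hwx.eq, mul_inv_cancel_right, hinv]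
  obtain ⟨q, hq⟩ := exists_fix hP.se hv2
  obtain rfl := hcentre v hv2 hcm q hq
  refine hfc (hcentre (f * v * f⁻¹) (by rw [orderOf_conj_eq, hv2]) ?_ (f • q) ?_)
  · show f * v * f⁻¹ * x = x * (f * v * f⁻¹)
    calc f * v * f⁻¹ * x = f * (v * (f⁻¹ * x)) := by group
      _ = f * (v * x) * f⁻¹ := by rw [(hfx.inv_left).eq]; group
      _ = f * x * v * f⁻¹ := by rw [hcm.eq]; group
      _ = x * (f * v * f⁻¹) := by rw [hfx.eq]; group
  · rw [mul_smul, mul_smul, inv_smul_smul, hq]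

omit hu hub in
/-- Two elements of `D` centralising the exact core and conjugate in `H` are conjugate in `D`. -/
theorem Pair.fusion_control {g g' h : G} (hg : g ∈ stab2 (base H) b) (hg' : g' ∈ stab2 (base H) b)
    (hgS : ∀ x ∈ op s (stab2 (base H) b), Commute x g)
    (hgS' : ∀ x ∈ op s (stab2 (base H) b), Commute x g') (hh : h ∈ H) (hconj : h * g * h⁻¹ = g') :
    ∃ d ∈ stab2 (base H) b, d * g * d⁻¹ = g' := by
  haveI := Fact.mk hP.prime
  set D := stab2 (base H) b with hD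
  set S := op s D with hS
  -- a largest `s`-subgroup of `C_D(g)` containing `S` is Sylow in `C_H(g)`
  have key : ∀ k : G, (∀ x ∈ S, Commute x k) →
      ∃ T : Sylow s ↥(H ⊓ centralizer ({k} : Set G)),
        S ≤ (T : Subgroup ↥(H ⊓ centralizer ({k} : Set G))).map
          (H ⊓ centralizer ({k} : Set G)).subtype ∧
        (T : Subgroup ↥(H ⊓ centralizer ({k} : Set G))).map
          (H ⊓ centralizer ({k} : Set G)).subtype ≤ D := by
    intro k hk
    set C := D ⊓ centralizer ({k} : Set G) with hC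
    set K := H ⊓ centralizer ({k} : Set G) with hK
    have hSC : S ≤ C := fun x hx =>
      ⟨op_le _ _ hx, mem_centralizer_singleton_iff.2 (hk x hx).eq⟩
    obtain ⟨Y, hY⟩ := ((op_isPGroup s D).comap_subtype (K := C)).exists_le_sylow
    set Y' := (Y : Subgroup C).map C.subtype with hY'
    have hSY : S ≤ Y' := fun x hx => ⟨⟨x, hSC hx⟩, hY (mem_subgroupOf.2 hx), rfl⟩
    have hY'C : Y' ≤ C := map_subtype_le _
    have hY'K : Y' ≤ K := hY'C.trans (inf_le_inf_right _ stab2_le)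
    obtain ⟨T, hT⟩ := ((Y.isPGroup'.map C.subtype).comap_subtype (K := K)).exists_le_sylow
    refine ⟨T, hSY.trans fun x hx => ⟨⟨x, hY'K hx⟩, hT (mem_subgroupOf.2 hx), rfl⟩, ?_⟩
    set T' := (T : Subgroup K).map K.subtype with hT'
    have hle : Y' ≤ T' := fun x hx => ⟨⟨x, hY'K hx⟩, hT (mem_subgroupOf.2 hx), rfl⟩
    suffices h : T' = Y' by rw [h]; exact hY'C.trans inf_le_left
    by_contra hne
    haveI : Group.IsNilpotent T' := (T.isPGroup'.map K.subtype).isNilpotent
    have hlt : Y'.subgroupOf T' < ⊤ := lt_top_iff_ne_top.2 fun e =>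
      hne (le_antisymm (Subgroup.subgroupOf_eq_top.1 e) hle)
    obtain ⟨t, ht, htn⟩ := SetLike.exists_of_lt (Group.normalizerCondition_of_isNilpotent _ hlt)
    have htY : (t : G) ∈ normalizer (Y' : Set G) := by
      refine mem_normalizer_iff.2 fun x => ⟨fun hx => ?_, fun hx => ?_⟩
      · exact (mem_normalizer_iff.1 ht ⟨x, hle hx⟩).1 hx
      · have hxT : x ∈ T' := by
          simpa [mul_assoc] using mul_mem (mul_mem (inv_mem t.2) (hle hx)) t.2
        exact (mem_normalizer_iff.1 ht ⟨x, hxT⟩).2 hx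
    have htK : (t : G) ∈ K := map_subtype_le _ t.2
    have htb : (t : G) • b = b := by
      have hfix : ∀ x ∈ S, x • ((t : G) • b) = (t : G) • b := fun x hx => by
        have h1 : (t : G)⁻¹ * x * t ∈ Y' := (mem_normalizer_iff''.1 htY x).1 (hSY hx)
        have h2 := fix_snd (mem_inf.1 (hY'C h1)).1
        rwa [mul_smul, mul_smul, inv_smul_eq_iff] at h2
      rcases hP.core_fix _ hfix with h | h
      · exact absurd (smul_left_cancel (t : G)
          ((mem_stab_base.2 (mem_inf.1 htK).1).trans h.symm)) hP.hab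
      · exact h
    have htC : (t : G) ∈ C := ⟨mem_inf.2 ⟨mem_stabilizer_iff.2 (mem_stab_base.2 (mem_inf.1 htK).1),
      mem_stabilizer_iff.2 htb⟩, (mem_inf.1 htK).2⟩
    -- so `t` enlarges `Y`
    have hYt : IsPGroup s (Y' ⊔ zpowers (t : G) : Subgroup G) :=
      ((T.isPGroup'.map K.subtype).to_le (sup_le hle (zpowers_le.2 t.2)))
    have heq := Y.3 (hYt.comap_subtype (K := C)) fun x hx =>
      mem_subgroupOf.2 (mem_sup_left ⟨x, hx, rfl⟩)
    apply htn
    rw [mem_subgroupOf]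
    exact ⟨⟨t, htC⟩, heq ▸ mem_subgroupOf.2 (mem_sup_right (mem_zpowers _)), rfl⟩
  obtain ⟨T, hST, hTD⟩ := key g hgS
  obtain ⟨T2, hST2, hT2D⟩ := key g' hgS'
  have hmap : ((T : Subgroup ↥(H ⊓ centralizer ({g} : Set G))).map
      (H ⊓ centralizer ({g} : Set G)).subtype).map (MulAut.conj h).toMonoidHom ≤ (H ⊓ centralizer ({g'} : Set G)) := by
    rintro _ ⟨x, hx, rfl⟩
    obtain ⟨hxH, hxg⟩ := mem_inf.1 (map_subtype_le _ hx)
    refine mem_inf.2 ⟨mul_mem (mul_mem hh hxH) (inv_mem hh), mem_centralizer_singleton_iff.2 ?_⟩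
    rw [← hconj]
    exact ((show Commute x g from mem_centralizer_singleton_iff.1 hxg).map
      (MulAut.conj h).toMonoidHom).eq
  obtain ⟨T3, hT3⟩ := (((T.isPGroup'.map (H ⊓ centralizer ({g} : Set G)).subtype).map
    (MulAut.conj h).toMonoidHom).comap_subtype
    (K := (H ⊓ centralizer ({g'} : Set G)))).exists_le_sylow
  obtain ⟨k, hk⟩ := MulAction.exists_smul_eq ↥(H ⊓ centralizer ({g'} : Set G)) T3 T2
  have hkH := (mem_inf.1 k.2).1
  have hmem : ∀ x ∈ S, ((k : G) * h) * x * ((k : G) * h)⁻¹ ∈ D := by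
    intro x hx
    refine hT2D ?_
    have hx3 : (⟨h * x * h⁻¹, hmap ⟨x, hST hx, rfl⟩⟩ : ↥(H ⊓ centralizer ({g'} : Set G))) ∈ (T3 : Subgroup ↥(H ⊓ centralizer ({g'} : Set G))) :=
      hT3 (mem_subgroupOf.2 ⟨x, hST hx, rfl⟩)
    refine ⟨k * (⟨h * x * h⁻¹, hmap ⟨x, hST hx, rfl⟩⟩ : ↥(H ⊓ centralizer ({g'} : Set G))) * k⁻¹, ?_, ?_⟩
    · rw [← hk, Sylow.coe_subgroup_smul]
      exact ⟨_, hx3, rfl⟩
    · simp [mul_assoc]
  have hkhb : ((k : G) * h) • b = b := by
    have hfix : ∀ x ∈ S, x • (((k : G) * h)⁻¹ • b) = ((k : G) * h)⁻¹ • b := fun x hx => by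
      have h2 := fix_snd (hmem x hx)
      rw [mul_smul, mul_smul _ x] at h2
      exact eq_inv_smul_iff.2 h2
    rcases hP.core_fix _ hfix with e | e
    · rw [inv_smul_eq_iff, mem_stab_base.2 (mul_mem hkH hh)] at e
      exact absurd e.symm hP.hab
    · exact (inv_smul_eq_iff.1 e).symm
  refine ⟨(k : G) * h, mem_inf.2 ⟨mem_stabilizer_iff.2 (mem_stab_base.2 (mul_mem hkH hh)),
    mem_stabilizer_iff.2 hkhb⟩, ?_⟩
  calc (k : G) * h * g * ((k : G) * h)⁻¹ = (k : G) * (h * g * h⁻¹) * (k : G)⁻¹ := by group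
    _ = g' := by
      rw [hconj]
      exact mul_inv_eq_iff_eq_mul.2 (mem_centralizer_singleton_iff.1 (mem_inf.1 k.2).2)

omit hu hub in
/-- The centraliser step. -/
theorem Pair.fus_step {e y f : G} (he : e ∈ H) (he1 : e ≠ 1)
    (hle : ¬ centralizer ({e} : Set G) ≤ H)
    (h2 : BenderCons37.RankTwo (centralizer ({e} : Set G))) (hy : orderOf y = 2)
    (hyb : y • base H = base H) (hye : Commute y e) (hf : f • base H = base H)
    (hfe : Commute f e) (hodd : Odd (Nat.card (centralizer ({f} : Set G)))) : Fus H f (y * f) :=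
  BenderCore74.fus_of_commuting (L := centralizer ({e} : Set G))
    (mem_centralizer_singleton_iff.2 hfe.eq) hf hodd
    (hP.comm_in _ (hP.faithful e he1 he) hle h2) hy (mem_centralizer_singleton_iff.2 hye.eq) hyb

end Cfsg.Agent.Bender85.Exact
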